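import Groth.Prelude.Def_FEt

/-!
# Purity is invariant under isomorphisms of rings
-/

set_option autoImplicit false
set_option linter.style.haveILetI false
universe u

open CategoryTheory CategoryTheory.Limits AlgebraicGeometry


noncomputable section

namespace PurityGlueLib

theorem purityHolds_of_ringEquiv {A B : Type u} [CommRing A] [IsLocalRing A] [CommRing B] [IsLocalRing B]
    (e : A ≃+* B) (h : FEt.PurityHolds A) : FEt.PurityHolds B := by
  haveI : (FEt.restrict (FEt.puncturedSpec A).ι).EssSurj := h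
  let φ : Spec (CommRingCat.of B) ⟶ Spec (CommRingCat.of A) := Spec.map e.toCommRingCatIso.hom
  haveI : IsIso φ := inferInstanceAs (IsIso (Spec.map e.toCommRingCatIso.hom))
  have hc : ∀ z : Spec (CommRingCat.of B), φ z = IsLocalRing.closedPoint A → z = IsLocalRing.closedPoint B := by
    intro z hz
    refine φ.isOpenEmbedding.injective (hz.trans ?_)
    haveI : IsLocalHom (e : A →+* B) := ⟨fun a ha => by simpa using ha.map e.symm⟩
    exact (PrimeSpectrum.ext (IsLocalRing.maximalIdeal_comap (e : A →+* B))).symm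
  have hpre : φ ⁻¹ᵁ FEt.puncturedSpec A = FEt.puncturedSpec B := by
    ext z
    refine not_congr ⟨hc z, ?_⟩
    rintro (rfl : z = IsLocalRing.closedPoint B)
    obtain ⟨w, hw⟩ := φ.surjective (IsLocalRing.closedPoint A)
    rwa [← hc w hw]
  let ψ : (FEt.puncturedSpec B : Scheme.{u}) ⟶ (FEt.puncturedSpec A : Scheme.{u}) :=
    φ.resLE (FEt.puncturedSpec A) (FEt.puncturedSpec B) hpre.ge
  have hψ : IsPullback ψ (FEt.puncturedSpec B).ι (FEt.puncturedSpec A).ι φ :=
    IsOpenImmersion.isPullback ψ (FEt.puncturedSpec B).ι (FEt.puncturedSpec A).ι φ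
      (Scheme.Hom.resLE_comp_ι _ _).symm (by simpa using hpre)
  haveI : IsIso ψ := hψ.isIso_fst_of_isIso
  refine ⟨fun E => ?_⟩
  have hp : FEt.prop (E.hom ≫ ψ) :=
    MorphismProperty.comp_mem _ _ _ E.prop ⟨inferInstance, inferInstance⟩
  let Y₀ : FEt.Cat (FEt.puncturedSpec A : Scheme.{u}) := MorphismProperty.Over.mk ⊤ (E.hom ≫ ψ) hp
  let Y' := (FEt.restrict (FEt.puncturedSpec A).ι).objPreimage Y₀
  let ε := (FEt.restrict (FEt.puncturedSpec A).ι).objObjPreimageIso Y₀
  let γ : pullback Y'.hom (FEt.puncturedSpec A).ι ≅ E.left :=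
    (MorphismProperty.Over.forget _ _ _ ⋙ Over.forget _).mapIso ε
  have hγ : γ.hom ≫ E.hom ≫ ψ = pullback.snd Y'.hom (FEt.puncturedSpec A).ι := MorphismProperty.Over.w ε.hom
  have sq1 : IsPullback (γ.inv ≫ pullback.fst Y'.hom (FEt.puncturedSpec A).ι) (E.hom ≫ ψ) Y'.hom
      (FEt.puncturedSpec A).ι :=
    IsPullback.of_iso_pullback
      ⟨by rw [Category.assoc, pullback.condition, ← Category.assoc]
          refine congrArg (· ≫ (FEt.puncturedSpec A).ι) ?_
          rw [Iso.inv_comp_eq]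
          exact hγ.symm⟩
      γ.symm rfl (by rw [Iso.symm_hom, Iso.inv_comp_eq]; exact hγ.symm)
  have sq0 : IsPullback (𝟙 E.left) E.hom (E.hom ≫ ψ) ψ :=
    IsPullback.of_horiz_isIso ⟨Category.id_comp _⟩
  have big : IsPullback (γ.inv ≫ pullback.fst Y'.hom (FEt.puncturedSpec A).ι) E.hom Y'.hom
      ((FEt.puncturedSpec B).ι ≫ φ) := by
    have h1 := sq0.paste_horiz sq1
    rw [Category.id_comp, hψ.w] at h1
    exact h1
  let k := γ.inv ≫ pullback.fst Y'.hom (FEt.puncturedSpec A).ι
  let l : E.left ⟶ pullback Y'.hom φ := pullback.lift k (E.hom ≫ (FEt.puncturedSpec B).ι)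
    (big.w.trans (Category.assoc _ _ _).symm)
  have hs : IsPullback l E.hom (pullback.snd Y'.hom φ) (FEt.puncturedSpec B).ι :=
    IsPullback.of_right (by rw [pullback.lift_fst]; exact big) (pullback.lift_snd _ _ _)
      (IsPullback.of_hasPullback Y'.hom φ)
  exact ⟨(FEt.restrict φ).obj Y', ⟨(MorphismProperty.Over.isoMk hs.isoPullback hs.isoPullback_hom_snd).symm⟩⟩

end PurityGlueLib
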