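import Groth.Prelude.Def_FEt

/-!
# Restrictions of covers as pullback squares
-/

set_option autoImplicit false
universe u

open CategoryTheory CategoryTheory.Limits AlgebraicGeometry

noncomputable section

namespace PurityGlueLib

variable {S T : Scheme.{u}} {f : S ⟶ T}

theorem isPullback_of_iso {Y : FEt.Cat T} {X : FEt.Cat S} (e : (FEt.restrict f).obj Y ≅ X) :
    IsPullback (e.inv.left ≫ pullback.fst Y.hom f) X.hom Y.hom f :=
  IsPullback.of_iso_pullback
    ⟨(Category.assoc _ _ _).trans ((congrArg (e.inv.left ≫ ·) pullback.condition).trans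
      ((Category.assoc _ _ _).symm.trans (congrArg (· ≫ f) (MorphismProperty.Over.w e.inv))))⟩
    ((MorphismProperty.Over.forget _ _ _ ⋙ Over.forget _).mapIso e).symm rfl (MorphismProperty.Over.w e.inv)

theorem nonempty_iso_of_isPullback {Y : FEt.Cat T} {X : FEt.Cat S} {k : X.left ⟶ Y.left}
    (h : IsPullback k X.hom Y.hom f) : Nonempty ((FEt.restrict f).obj Y ≅ X) :=
  ⟨(MorphismProperty.Over.isoMk h.isoPullback h.isoPullback_hom_snd).symm⟩

end PurityGlueLib
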