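import Groth.Agent.DescFP.Glue
import Groth.Prelude.Def_FEt

/-!
# Gluing finite étale covers over two opens
-/

set_option autoImplicit false
universe u

open CategoryTheory CategoryTheory.Limits AlgebraicGeometry DescFP

noncomputable section

namespace PurityGlueLib

variable {T V' D' A B : Scheme.{u}} (u : V' ⟶ T) (v : D' ⟶ T) [IsOpenImmersion u] [IsOpenImmersion v]
  (fA : A ⟶ V') (fB : B ⟶ D')

/-- a morphism which becomes `fA` over `u` and `fB` over `v` -/
theorem exists_glue_over (hcov : u.opensRange ⊔ v.opensRange = ⊤) {W : Scheme.{u}} (a : W ⟶ A) (b : W ⟶ B)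
    [IsOpenImmersion a] [IsOpenImmersion b] (hab : a ≫ fA ≫ u = b ≫ fB ≫ v)
    (hra : a.opensRange = (fA ≫ u) ⁻¹ᵁ v.opensRange) (hrb : b.opensRange = (fB ≫ v) ⁻¹ᵁ u.opensRange) :
    ∃ (E : Scheme.{u}) (q : E ⟶ T) (iA : A ⟶ E) (iB : B ⟶ E), IsPullback iA fA q u ∧ IsPullback iB fB q v := by
  let inl := pushout.inl a b
  let inr := pushout.inr a b
  let q : pushout a b ⟶ T := pushout.desc (fA ≫ u) (fB ≫ v) hab
  have hl : inl ≫ q = fA ≫ u := pushout.inl_desc _ _ _
  have hr : inr ≫ q = fB ≫ v := pushout.inr_desc _ _ _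
  have key : ∀ z : (pushout a b : Scheme.{u}), (z ∈ inl.opensRange) ∨ (z ∈ inr.opensRange) := fun z =>
    (range_inl_union_range_inr a b).ge trivial
  refine ⟨_, q, inl, inr, (IsOpenImmersion.isPullback fA inl u q hl ?_).flip,
    (IsOpenImmersion.isPullback fB inr v q hr ?_).flip⟩
  · refine (le_antisymm (fun z hz => ?_) ?_)
    · rcases key z with h | ⟨y, rfl⟩
      · exact h
      · have hy : y ∈ b.opensRange := by
          rw [hrb]
          show (fB ≫ v) y ∈ u.opensRange
          rw [← hr]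
          exact hz
        obtain ⟨w, rfl⟩ := hy
        exact ⟨a w, by rw [← Scheme.Hom.comp_apply, pushout.condition]; rfl⟩
    · rintro _ ⟨y, rfl⟩
      exact ⟨fA y, by rw [← Scheme.Hom.comp_apply, ← hl]; rfl⟩
  · refine (le_antisymm (fun z hz => ?_) ?_)
    · rcases key z with ⟨y, rfl⟩ | h
      · have hy : y ∈ a.opensRange := by
          rw [hra]
          show (fA ≫ u) y ∈ v.opensRange
          rw [← hl]
          exact hz
        obtain ⟨w, rfl⟩ := hy
        exact ⟨b w, by rw [← Scheme.Hom.comp_apply, ← pushout.condition]; rfl⟩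
      · exact h
    · rintro _ ⟨y, rfl⟩
      exact ⟨fB y, by rw [← Scheme.Hom.comp_apply, ← hr]; rfl⟩

theorem fet_of_pullback_cover (hcov : u.opensRange ⊔ v.opensRange = ⊤) {E : Scheme.{u}} {q : E ⟶ T}
    {iA : A ⟶ E} {iB : B ⟶ E} (hA : IsPullback iA fA q u) (hB : IsPullback iB fB q v)
    (pA : FEt.prop fA) (pB : FEt.prop fB) : FEt.prop q := by
  haveI : IsZariskiLocalAtTarget @IsFinite := inferInstance
  haveI : IsZariskiLocalAtTarget @Etale := inferInstance
  have loc : ∀ (P : MorphismProperty Scheme.{u}) [IsZariskiLocalAtTarget P], P fA → P fB → P q := by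
    intro P _ hPA hPB
    refine IsZariskiLocalAtTarget.of_openCover (cover2 u v hcov) ?_
    rintro ⟨_ | _⟩
    · show P (pullback.snd q v)
      rw [← hB.isoPullback_inv_snd]
      exact (P.cancel_left_of_respectsIso _ _).2 hPB
    · show P (pullback.snd q u)
      rw [← hA.isoPullback_inv_snd]
      exact (P.cancel_left_of_respectsIso _ _).2 hPA
  exact ⟨loc _ pA.1 pB.1, loc _ pA.2 pB.2⟩

end PurityGlueLib
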