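import Groth.Agent.PurityGlueLib.Global
import Groth.Agent.PurePairLib.Main
import Groth.Agent.PurityCILib.Main
import Groth.Agent.PunctFEtLib.Punctured
import Groth.Agent.CIRingLib.Avramov
import Groth.Agent.CIRingLib.Fibres
import Groth.Agent.AlgSpLib.TrdegInv
import Groth.Agent.HenselDesc.Local
import Groth.Agent.S0272
import Groth.Prelude.Def_EtDepth

/-!
# Homotopic depth at least three for regular schemes and complete intersections
-/

set_option autoImplicit false
set_option linter.style.haveILetI false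
universe u

open CategoryTheory CategoryTheory.Limits AlgebraicGeometry IsLocalRing

noncomputable section

namespace PurityGlueLib

theorem isEquivalence_of_purity {X : Scheme.{u}} [IsLocallyNoetherian X] (U : X.Opens)
    (hd : ∀ x : X, x ∉ U → (2 : ℕ∞) ≤ LocCoh.depth (X.presheaf.stalk x) (X.presheaf.stalk x))
    (hp : ∀ x : X, x ∉ U → FEt.PurityHolds (X.presheaf.stalk x)) : (FEt.restrict U.ι).IsEquivalence := by
  obtain ⟨hfull, hfaith⟩ := PunctFEtLib.restrict_full_faithful U fun Y => by
    haveI : Etale Y.hom := Y.prop.2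
    exact PunctFEtLib.invisible_preimage (X := X) Y.hom U hd
  haveI := hfull
  haveI := hfaith
  haveI : (FEt.restrict U.ι).EssSurj := ⟨fun E => by
    obtain ⟨Z, q, i, hq, sq⟩ := exists_extension_global (U := U) (fun g hg => by
      haveI := hg
      exact PunctFEtLib.invisible_preimage g U hd) E.prop hp
    exact ⟨MorphismProperty.Over.mk ⊤ q hq, nonempty_iso_of_isPullback sq⟩⟩
  exact { }

theorem two_le_depth_of_isCM {A : Type u} [CommRing A] [IsLocalRing A] [IsNoetherianRing A] (hA : CommAlgDim.IsCM A)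
    (hdim : (2 : WithBot ℕ∞) ≤ ringKrullDim A) : (2 : ℕ∞) ≤ LocCoh.depth A A := by
  rw [show (2 : ℕ∞) = ((2 : ℕ) : ℕ∞) from rfl, CommAlgDim.le_depth_iff]
  exact PicLiftLib.four_le_depth hA 2 hdim

/-- The stalks of an étale scheme. -/
theorem stalk_etale {T X : Scheme.{u}} [IsLocallyNoetherian X] (g : T ⟶ X) [Etale g] (t : T) :
    (IsRegularLocalRing (X.presheaf.stalk (g t)) → IsRegularLocalRing (T.presheaf.stalk t)) ∧
    (Pi1.IsCompleteIntersection (X.presheaf.stalk (g t)) → Pi1.IsCompleteIntersection (T.presheaf.stalk t)) := by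
  haveI : IsLocallyNoetherian T := LocallyOfFiniteType.isLocallyNoetherian g
  have hm := ((UnrStalkLib.stalkMap_formallyUnramified_iff g t).1 (FormallyUnramified.stalkMap g t)).1
  letI := (g.stalkMap t).hom.toAlgebra
  haveI : Module.Flat (X.presheaf.stalk (g t)) (T.presheaf.stalk t) := Flat.stalkMap g t
  haveI : IsLocalHom (algebraMap (X.presheaf.stalk (g t)) (T.presheaf.stalk t)) :=
    inferInstanceAs (IsLocalHom (g.stalkMap t).hom)
  have hm : (maximalIdeal (X.presheaf.stalk (g t))).map
      (algebraMap (X.presheaf.stalk (g t)) (T.presheaf.stalk t)) = maximalIdeal (T.presheaf.stalk t) := hm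
  refine ⟨(HenselDesc.isRegularLocalRing_iff_of_flat_unramified' _ _ hm).2, fun h => ?_⟩
  let m := (maximalIdeal (X.presheaf.stalk (g t))).map (algebraMap (X.presheaf.stalk (g t)) (T.presheaf.stalk t))
  haveI : m.IsMaximal := by
    show ((maximalIdeal (X.presheaf.stalk (g t))).map _).IsMaximal
    rw [hm]
    exact maximalIdeal.isMaximal _
  letI : Field (T.presheaf.stalk t ⧸ m) := Ideal.Quotient.field m
  exact CIRingLib.isCompleteIntersection_iff_of_flat.2 ⟨h, CIRingLib.isCompleteIntersection_of_regular _⟩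

theorem of_isAbsCompleteIntersection {A : Type u} [CommRing A] [IsLocalRing A] [IsNoetherianRing A]
    (h : SGA2.IsAbsCompleteIntersection A) : Pi1.IsCompleteIntersection A ∧ CommAlgDim.IsCM A := by
  obtain ⟨B, _, _, rs, -, hreg, ⟨e⟩⟩ := h
  haveI : IsLocalRing (B ⧸ Ideal.ofList rs) := e.isLocalRing
  refine ⟨?_, CatLib.isCM_of_ringEquiv e.symm
    (PicLiftLib.isCM_quot _ B rs rfl (CommAlgDim.isCM_of_isRegularLocalRing B) hreg)⟩
  have hker : RingHom.ker (e.symm.toRingHom.comp (Ideal.Quotient.mk (Ideal.ofList rs))) = Ideal.ofList rs := by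
    ext x; simp [RingHom.mem_ker, Ideal.Quotient.eq_zero_iff_mem]
  refine (CIRingLib.isCompleteIntersection_iff (e.symm.toRingHom.comp (Ideal.Quotient.mk _))
    (e.symm.surjective.comp Ideal.Quotient.mk_surjective)).2 ?_
  exact ⟨rs, hreg, hker.symm⟩

theorem htpDepthGE3_of_stalks {X U : Scheme.{u}} [IsLocallyNoetherian X] (j : U ⟶ X) [IsOpenImmersion j]
    (h : (∀ x : X, IsRegularLocalRing (X.presheaf.stalk x)) ∧
        (∀ y : X, y ∉ Set.range j.base → (2 : WithBot ℕ∞) ≤ ringKrullDim (X.presheaf.stalk y)) ∨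
      (∀ x : X, SGA2.IsAbsCompleteIntersection (X.presheaf.stalk x)) ∧
        (∀ y : X, y ∉ Set.range j.base → (3 : WithBot ℕ∞) ≤ ringKrullDim (X.presheaf.stalk y))) :
    EtDepth.HtpDepthGE3 j := by
  intro T g _
  haveI : IsLocallyNoetherian T := LocallyOfFiniteType.isLocallyNoetherian g
  let V : T.Opens := (pullback.snd j g).opensRange
  have hV : ∀ t : T, t ∉ V → g t ∉ Set.range j.base := fun t ht hgt => ht (by
    show t ∈ Set.range (pullback.snd j g)
    rw [AlgebraicGeometry.Scheme.Pullback.range_snd]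
    exact hgt)
  have hdim : ∀ t : T, ringKrullDim (T.presheaf.stalk t) = ringKrullDim (X.presheaf.stalk (g t)) :=
    fun t => AlgSpLib.ringKrullDim_stalk_etale g t
  have hdp : ∀ t : T, t ∉ V → (2 : ℕ∞) ≤ LocCoh.depth (T.presheaf.stalk t) (T.presheaf.stalk t) ∧
      FEt.PurityHolds (T.presheaf.stalk t) := by
    intro t ht
    rcases h with ⟨hr, hd⟩ | ⟨hc, hd⟩
    · haveI := (stalk_etale g t).1 (hr (g t))
      have hd' : (2 : WithBot ℕ∞) ≤ ringKrullDim (T.presheaf.stalk t) := (hdim t).ge.trans' (hd _ (hV t ht))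
      exact ⟨two_le_depth_of_isCM (CommAlgDim.isCM_of_isRegularLocalRing _) hd', Groth.Agent.S0247.result _ hd'⟩
    · obtain ⟨hci, hcm⟩ := of_isAbsCompleteIntersection (hc (g t))
      have hd' : (3 : WithBot ℕ∞) ≤ ringKrullDim (X.presheaf.stalk (g t)) := hd _ (hV t ht)
      refine ⟨?_, Groth.Agent.S0272.result _ ((stalk_etale g t).2 hci) ((hdim t).ge.trans' hd')⟩
      rw [PunctFEtLib.depth_stalk_etale g t]
      exact two_le_depth_of_isCM hcm (le_trans (by norm_cast) hd')
  exact Groth.Agent.PurePair.restrict_isEquivalence_of_iso V.ι (pullback.snd j g) (pullback.snd j g).isoOpensRange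
    (Scheme.Hom.isoOpensRange_hom_ι _) (isEquivalence_of_purity V (fun t ht => (hdp t ht).1) fun t ht => (hdp t ht).2)

end PurityGlueLib
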