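import Groth.Agent.PurityGlueLib.Step
import Groth.Agent.PurityGlueLib.Equiv
import Groth.Agent.PurityGlueLib.Square
import Groth.Agent.PunctFEtLib.Extend

/-!
# Extension of finite étale covers on locally Noetherian schemes
-/

set_option autoImplicit false
set_option linter.style.haveILetI false
universe u

open CategoryTheory CategoryTheory.Limits AlgebraicGeometry TopologicalSpace
open PunctFEtLib (Invisible)

noncomputable section

namespace PurityGlueLib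

variable {X : Scheme.{u}} {U : X.Opens} {E₀ : Scheme.{u}} (q₀ : E₀ ⟶ (U : Scheme.{u}))

/-- A cover of an open `W` extending the cover of `W ⊓ U`. -/
structure Datum (W : X.Opens) : Type (u + 1) where
  /-- the total space -/
  Z : Scheme.{u}
  /-- the projection -/
  q : Z ⟶ (W : Scheme.{u})
  hq : FEt.prop q
  /-- the identification over `U` -/
  k : (((q ≫ W.ι) ⁻¹ᵁ U : Z.Opens) : Scheme.{u}) ⟶ E₀
  oi : IsOpenImmersion k
  hk : k ≫ q₀ ≫ U.ι = ((q ≫ W.ι) ⁻¹ᵁ U).ι ≫ q ≫ W.ι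
  mem_range : ∀ e : E₀, e ∈ Set.range k ↔ (q₀ ≫ U.ι) e ∈ W

variable {q₀}

attribute [instance] Datum.oi

/-- The inclusion of the part over `U`. -/
abbrev Datum.inc {W : X.Opens} (d : Datum q₀ W) : (((d.q ≫ W.ι) ⁻¹ᵁ U : d.Z.Opens) : Scheme.{u}) ⟶ d.Z :=
  ((d.q ≫ W.ι) ⁻¹ᵁ U).ι

/-- Morphisms of data. -/
def IsHom {W W' : X.Opens} (d : Datum q₀ W) (d' : Datum q₀ W') (h : d.Z ⟶ d'.Z) : Prop :=
  h ≫ d'.q ≫ W'.ι = d.q ≫ W.ι ∧ ∃ v, v ≫ d'.inc = d.inc ≫ h ∧ v ≫ d'.k = d.k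

theorem IsHom.id {W : X.Opens} (d : Datum q₀ W) : IsHom d d (𝟙 d.Z) :=
  ⟨Category.id_comp _, 𝟙 _, (Category.id_comp _).trans (Category.comp_id _).symm, Category.id_comp _⟩

theorem IsHom.comp {W W' W'' : X.Opens} {d : Datum q₀ W} {d' : Datum q₀ W'} {d'' : Datum q₀ W''}
    {h : d.Z ⟶ d'.Z} {h' : d'.Z ⟶ d''.Z} (H : IsHom d d' h) (H' : IsHom d' d'' h') :
    IsHom d d'' (h ≫ h') := by
  obtain ⟨e, v, hv, hv'⟩ := H
  obtain ⟨e', w, hw, hw'⟩ := H'
  exact ⟨by rw [Category.assoc, e', e], v ≫ w, by rw [Category.assoc, hw, reassoc_of% hv],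
    by rw [Category.assoc, hw', hv']⟩

variable (hU : ∀ {T : Scheme.{u}} (g : T ⟶ X), Etale g → Invisible (g ⁻¹ᵁ U))

include hU in
theorem invisible_datum {W : X.Opens} (d : Datum q₀ W) : Invisible ((d.q ≫ W.ι) ⁻¹ᵁ U) := by
  haveI : Etale d.q := d.hq.2
  exact hU (d.q ≫ W.ι) inferInstance

include hU in
theorem IsHom.unique {W W' : X.Opens} {d : Datum q₀ W} {d' : Datum q₀ W'} {h₁ h₂ : d.Z ⟶ d'.Z}
    (H₁ : IsHom d d' h₁) (H₂ : IsHom d d' h₂) : h₁ = h₂ := by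
  haveI : IsFinite d'.q := d'.hq.1
  obtain ⟨e₁, v₁, hv₁, hv₁'⟩ := H₁
  obtain ⟨e₂, v₂, hv₂, hv₂'⟩ := H₂
  have hv : v₁ = v₂ := (cancel_mono d'.k).1 (hv₁'.trans hv₂'.symm)
  have h : d.inc ≫ h₁ = d.inc ≫ h₂ := by rw [← hv₁, ← hv₂, hv]
  have hw : h₁ ≫ d'.q = h₂ ≫ d'.q := by
    rw [← cancel_mono W'.ι, Category.assoc, Category.assoc, e₁, e₂]
  haveI : IsIso (⊤ : d.Z.Opens).ι := by rw [← Scheme.topIso_hom]; infer_instance
  rw [← cancel_epi (⊤ : d.Z.Opens).ι]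
  refine PunctFEtLib.ext_of_invisible (invisible_datum hU d) d'.q (by simp only [Category.assoc, hw]) ?_
  rw [← Scheme.Hom.resLE_comp_ι_assoc (⊤ : d.Z.Opens).ι
      (le_rfl : _ ≤ (⊤ : d.Z.Opens).ι ⁻¹ᵁ ((d.q ≫ W.ι) ⁻¹ᵁ U)),
    ← Scheme.Hom.resLE_comp_ι_assoc (⊤ : d.Z.Opens).ι
      (le_rfl : _ ≤ (⊤ : d.Z.Opens).ι ⁻¹ᵁ ((d.q ≫ W.ι) ⁻¹ᵁ U))]
  exact congrArg (_ ≫ ·) h

include hU in
theorem exists_isHom {W W' : X.Opens} (hW : W ≤ W') (d : Datum q₀ W) (d' : Datum q₀ W') :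
    ∃ h, IsHom d d' h := by
  haveI : IsFinite d'.q := d'.hq.1
  have hr : Set.range d.k ⊆ Set.range d'.k := fun e he => (d'.mem_range e).2 (hW ((d.mem_range e).1 he))
  let v := IsOpenImmersion.lift d'.k d.k hr
  have hv : v ≫ d'.k = d.k := IsOpenImmersion.lift_fac _ _ _
  have hg : (v ≫ d'.inc) ≫ d'.q = d.inc ≫ d.q ≫ X.homOfLE hW := by
    rw [← cancel_mono W'.ι]
    simp only [Category.assoc, X.homOfLE_ι]
    rw [← d'.hk, reassoc_of% hv, d.hk]
  obtain ⟨G, hG, hGq⟩ := PunctFEtLib.exists_extend (invisible_datum hU d) d'.q (d.q ≫ X.homOfLE hW) (v ≫ d'.inc) hg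
  exact ⟨G, by rw [← Category.assoc, hGq, Category.assoc, X.homOfLE_ι], v, hG.symm, hv⟩

theorem Datum.exists_restriction {W W' : X.Opens} (hW : W ≤ W') (d' : Datum q₀ W') :
    ∃ (d : Datum q₀ W) (j : d.Z ⟶ d'.Z), IsHom d d' j ∧ IsPullback j d.q d'.q (X.homOfLE hW) := by
  let r := d'.q ≫ W'.ι
  let P : d'.Z.Opens := r ⁻¹ᵁ W
  let q : (P : Scheme.{u}) ⟶ (W : Scheme.{u}) := r.resLE W P le_rfl
  have hq : q ≫ W.ι = P.ι ≫ r := Scheme.Hom.resLE_comp_ι _ _
  have sq : IsPullback q P.ι (X.homOfLE hW) d'.q :=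
    IsOpenImmersion.isPullback q P.ι (X.homOfLE hW) d'.q
      (by rw [← cancel_mono W'.ι, Category.assoc, Category.assoc, X.homOfLE_ι, hq]) (by
      ext z
      show d'.q z ∈ Set.range (X.homOfLE hW) ↔ z ∈ Set.range P.ι
      rw [Scheme.Opens.range_ι]
      constructor
      · rintro ⟨w, hw⟩
        show W'.ι (d'.q z) ∈ W
        rw [← hw, ← Scheme.Hom.comp_apply, X.homOfLE_ι]
        exact w.2
      · intro hz
        refine ⟨⟨r z, hz⟩, W'.ι.isEmbedding.injective ?_⟩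
        rw [← Scheme.Hom.comp_apply, X.homOfLE_ι]
        rfl)
  let m := P.ι.resLE ((d'.q ≫ W'.ι) ⁻¹ᵁ U) ((q ≫ W.ι) ⁻¹ᵁ U) (fun z hz => by
    show r (P.ι z) ∈ U
    rw [← Scheme.Hom.comp_apply, ← hq]
    exact hz)
  have hm : m ≫ d'.inc = ((q ≫ W.ι) ⁻¹ᵁ U).ι ≫ P.ι := Scheme.Hom.resLE_comp_ι _ _
  haveI : IsOpenImmersion (m ≫ d'.inc) := by rw [hm]; infer_instance
  haveI : IsOpenImmersion m := IsOpenImmersion.of_comp m d'.inc
  have hk : (m ≫ d'.k) ≫ q₀ ≫ U.ι = ((q ≫ W.ι) ⁻¹ᵁ U).ι ≫ q ≫ W.ι := by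
    rw [Category.assoc, d'.hk, reassoc_of% hm, hq]
  let d : Datum q₀ W := ⟨(P : Scheme.{u}), q, MorphismProperty.of_isPullback sq.flip d'.hq, m ≫ d'.k,
    inferInstance, hk, fun e => by
      constructor
      · rintro ⟨z, rfl⟩
        rw [← Scheme.Hom.comp_apply, hk]
        exact (q _).2
      · intro he
        obtain ⟨z, rfl⟩ := (d'.mem_range e).2 (hW he)
        have hz : (d'.k ≫ q₀ ≫ U.ι) z ∈ W := he
        rw [d'.hk] at hz
        have hz' : d'.inc z ∈ P := by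
          rw [Scheme.Hom.mem_preimage, ← Scheme.Hom.comp_apply]
          exact hz
        refine ⟨⟨⟨d'.inc z, hz'⟩, ?_⟩, ?_⟩
        · show (q ≫ W.ι) _ ∈ U
          rw [hq]
          exact z.2
        · refine congrArg d'.k (d'.inc.isEmbedding.injective ?_)
          refine (Scheme.Hom.comp_apply m d'.inc _).symm.trans ?_
          rw [hm]
          rfl⟩
  exact ⟨d, P.ι, ⟨hq.symm, m, hm, rfl⟩, sq.flip⟩

include hU in
theorem IsHom.isPullback {W W' : X.Opens} (hW : W ≤ W') {d : Datum q₀ W} {d' : Datum q₀ W'} {h : d.Z ⟶ d'.Z}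
    (H : IsHom d d' h) : IsPullback h d.q d'.q (X.homOfLE hW) := by
  obtain ⟨e, j, hj, sq⟩ := d'.exists_restriction hW
  obtain ⟨a, ha⟩ := exists_isHom hU le_rfl d e
  obtain ⟨b, hb⟩ := exists_isHom hU le_rfl e d
  let i : d.Z ≅ e.Z := ⟨a, b, (ha.comp hb).unique hU (IsHom.id d), (hb.comp ha).unique hU (IsHom.id e)⟩
  have h₁ : h = a ≫ j := H.unique hU (ha.comp hj)
  have h₂ : a ≫ e.q = d.q := by
    rw [← cancel_mono W.ι, Category.assoc]
    exact ha.1
  exact sq.of_iso i.symm (Iso.refl _) (Iso.refl _) (Iso.refl _) (by simp [i, h₁, ← Category.assoc, (hb.comp ha).unique hU (IsHom.id e)])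
    (by simp [i, ← h₂, ← Category.assoc, (hb.comp ha).unique hU (IsHom.id e)]) (by simp) (by simp)

theorem exists_datum [IsLocallyNoetherian X] (hq₀ : FEt.prop q₀)
    (h : ∀ x : X, x ∉ U → FEt.PurityHolds (X.presheaf.stalk x)) {W : X.Opens} (hW : IsAffineOpen W) :
    Nonempty (Datum q₀ W) := by
  haveI : IsAffine (W : Scheme.{u}) := hW
  haveI : IsLocallyNoetherian (W : Scheme.{u}) := LocallyOfFiniteType.isLocallyNoetherian W.ι
  haveI : AlgebraicGeometry.IsNoetherian (W : Scheme.{u}) := ⟨⟩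
  let UW : (W : Scheme.{u}).Opens := W.ι ⁻¹ᵁ U
  let P : E₀.Opens := (q₀ ≫ U.ι) ⁻¹ᵁ W
  let qW : (P : Scheme.{u}) ⟶ (W : Scheme.{u}) := (q₀ ≫ U.ι).resLE W P le_rfl
  have hqW : qW ≫ W.ι = P.ι ≫ q₀ ≫ U.ι := Scheme.Hom.resLE_comp_ι _ _
  let q₁ : (P : Scheme.{u}) ⟶ (UW : Scheme.{u}) := IsOpenImmersion.lift UW.ι qW (by
    rintro _ ⟨z, rfl⟩
    rw [Scheme.Opens.range_ι]
    show (qW ≫ W.ι) z ∈ U
    rw [hqW]
    exact (q₀ (P.ι z)).2)
  have hq₁ : q₁ ≫ UW.ι = qW := IsOpenImmersion.lift_fac _ _ _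
  have sq₁ : IsPullback q₁ P.ι (W.ι ∣_ U) q₀ :=
    IsOpenImmersion.isPullback q₁ P.ι (W.ι ∣_ U) q₀
      (by rw [← cancel_mono U.ι, Category.assoc, Category.assoc, morphismRestrict_ι, reassoc_of% hq₁, hqW]) (by
      ext z
      show q₀ z ∈ Set.range (W.ι ∣_ U) ↔ z ∈ Set.range P.ι
      rw [Scheme.Opens.range_ι]
      constructor
      · rintro ⟨w, hw⟩
        show U.ι (q₀ z) ∈ W
        rw [← hw, ← Scheme.Hom.comp_apply, morphismRestrict_ι]
        exact (UW.ι w).2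
      · intro hz
        refine ⟨⟨⟨(q₀ ≫ U.ι) z, hz⟩, (q₀ z).2⟩, U.ι.isEmbedding.injective ?_⟩
        rw [← Scheme.Hom.comp_apply, morphismRestrict_ι]
        rfl)
  obtain ⟨E, q, i, hq, sq⟩ := exists_extension UW (fun z hz => purityHolds_of_ringEquiv
    (asIso (W.ι.stalkMap z)).commRingCatIsoToRingEquiv (h _ hz)) q₁ (MorphismProperty.of_isPullback sq₁.flip hq₀)
  haveI : IsOpenImmersion i := MorphismProperty.of_isPullback sq.flip (inferInstanceAs (IsOpenImmersion UW.ι))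
  let V : E.Opens := (q ≫ W.ι) ⁻¹ᵁ U
  have hr : Set.range V.ι = Set.range i := by
    rw [Scheme.Opens.range_ι, range_fst_eq sq, Scheme.Opens.range_ι]
    rfl
  let χ := IsOpenImmersion.isoOfRangeEq V.ι i hr
  have hχ : χ.hom ≫ i = V.ι := IsOpenImmersion.isoOfRangeEq_hom_fac _ _ _
  refine ⟨⟨E, q, hq, χ.hom ≫ P.ι, inferInstance, ?_, fun e => ?_⟩⟩
  · rw [Category.assoc, ← hqW, ← hq₁, Category.assoc, ← sq.w_assoc, reassoc_of% hχ]
  · rw [show Set.range (χ.hom ≫ P.ι) = Set.range P.ι from by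
      rw [Scheme.Hom.comp_base, TopCat.coe_comp, Set.range_comp, Set.range_eq_univ.2 χ.hom.surjective, Set.image_univ],
      Scheme.Opens.range_ι]
    rfl

theorem exists_glued {X : Scheme.{u}} (G : Scheme.Cover.RelativeGluingData X.directedAffineCover)
    (hG : ∀ W : X.affineOpens, FEt.prop (G.natTrans.app W)) :
    ∃ (E : Scheme.{u}) (q : E ⟶ X) (ι : ∀ W : X.affineOpens, G.functor.obj W ⟶ E), FEt.prop q ∧
      (∀ W : X.affineOpens, IsPullback (ι W) (G.natTrans.app W) q W.1.ι) ∧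
      ∀ (W W' : X.directedAffineCover.I₀) (f : W ⟶ W'), G.functor.map f ≫ ι W' = ι W := by
  have hloc : ∀ (P : MorphismProperty Scheme.{u}) [IsZariskiLocalAtTarget P],
      (∀ W : X.affineOpens, P (G.natTrans.app W)) → P G.toBase := fun P _ hP =>
    IsZariskiLocalAtTarget.of_openCover X.directedAffineCover fun W => by
      have sq := (G.isPullback_natTrans_ι_toBase W).flip
      have h1 : P (sq.isoPullback.inv ≫ G.natTrans.app W) := (P.cancel_left_of_respectsIso _ _).2 (hP W)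
      rw [sq.isoPullback_inv_snd] at h1
      exact h1
  exact ⟨G.glued, G.toBase, fun W => colimit.ι G.functor W, ⟨hloc _ fun W => (hG W).1, hloc _ fun W => (hG W).2⟩,
    fun W => (G.isPullback_natTrans_ι_toBase W).flip, fun W W' f => colimit.w G.functor f⟩

include hU in
/-- **Extension on locally Noetherian schemes.** -/
theorem exists_extension_global [IsLocallyNoetherian X] (hq₀ : FEt.prop q₀)
    (h : ∀ x : X, x ∉ U → FEt.PurityHolds (X.presheaf.stalk x)) :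
    ∃ (E : Scheme.{u}) (q : E ⟶ X) (i : E₀ ⟶ E), FEt.prop q ∧ IsPullback i q₀ q U.ι := by
  have hdat : ∀ W : X.affineOpens, Nonempty (Datum q₀ W.1) := fun W => exists_datum hq₀ h W.2
  let D : ∀ W : X.affineOpens, Datum q₀ W.1 := fun W => (hdat W).some
  have hhom : ∀ {W W' : X.affineOpens}, W ≤ W' → ∃ m, IsHom (D W) (D W') m := fun hW => exists_isHom hU hW _ _
  choose m hm using @hhom
  let F : X.directedAffineCover.I₀ ⥤ Scheme.{u} :=
    { obj := fun W => (D W).Z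
      map := fun {W W'} f => m (leOfHom f)
      map_id := fun W => (hm _).unique hU (IsHom.id _)
      map_comp := fun f g => (hm _).unique hU ((hm _).comp (hm _)) }
  let η : F ⟶ X.directedAffineCover.functorOfLocallyDirected :=
    { app := fun W => (D W).q
      naturality := fun W W' f => ((hm (leOfHom f)).isPullback hU (leOfHom f)).w }
  obtain ⟨E, q, ι', hq, hsq', hw'⟩ := exists_glued
    { functor := F, natTrans := η, equifibered := fun W W' f => (hm (leOfHom f)).isPullback hU (leOfHom f) }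
    fun W => (D W).hq
  let ιW : ∀ W : X.affineOpens, (D W).Z ⟶ E := ι'
  have hsq : ∀ W : X.affineOpens, IsPullback (ιW W) (D W).q q W.1.ι := hsq'
  have hι : ∀ W, ιW W ≫ q = (D W).q ≫ W.1.ι := fun W => (hsq W).w
  have hw : ∀ {W W' : X.affineOpens} (hW : W ≤ W'), m hW ≫ ιW W' = ιW W := fun {W W'} hW =>
    hw' W W' (homOfLE hW)
  have hιoi : ∀ W : X.affineOpens, IsOpenImmersion (ιW W) := fun W =>
    MorphismProperty.of_isPullback (hsq W).flip (inferInstanceAs (IsOpenImmersion W.1.ι))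
  have hrι : ∀ W : X.affineOpens, Set.range (ιW W) = q ⁻¹' (W.1 : Set X) := fun W => by
    rw [range_fst_eq (hsq W), Scheme.Opens.range_ι]
  let f₀ : E₀ ⟶ X := q₀ ≫ U.ι
  let 𝒱 := X.directedAffineCover.pullback₁ f₀
  have hr : ∀ W : X.affineOpens, Set.range (pullback.fst f₀ W.1.ι) ⊆ Set.range (D W).k := by
    rintro W _ ⟨z, rfl⟩
    rw [(D W).mem_range, ← Scheme.Hom.comp_apply, pullback.condition]
    exact (pullback.snd f₀ W.1.ι z).2
  let l := fun W : X.affineOpens => IsOpenImmersion.lift (D W).k (pullback.fst f₀ W.1.ι) (hr W)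
  have hl : ∀ W, l W ≫ (D W).k = pullback.fst f₀ W.1.ι := fun W => IsOpenImmersion.lift_fac _ _ _
  let g := fun W : X.affineOpens => l W ≫ (D W).inc ≫ ιW W
  have hgc : ∀ (W W' : X.affineOpens) (t : pullback f₀ W.1.ι ⟶ pullback f₀ W'.1.ι),
      t ≫ pullback.fst f₀ W'.1.ι = pullback.fst f₀ W.1.ι → W ≤ W' → t ≫ g W' = g W := fun W W' t ht hle => by
    obtain ⟨e, v, hv, hv'⟩ := hm hle
    have h2 : t ≫ l W' = l W ≫ v := by
      rw [← cancel_mono (D W').k]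
      simp only [Category.assoc, hl, hv', ht]
    show t ≫ l W' ≫ (D W').inc ≫ ιW W' = l W ≫ (D W).inc ≫ ιW W
    rw [reassoc_of% h2, reassoc_of% hv, hw]
  let i : E₀ ⟶ E := Scheme.OpenCover.glueMorphismsOfLocallyDirected 𝒱 g (fun {W W'} f =>
    hgc W W' (Scheme.Cover.trans 𝒱 f) (Scheme.Cover.trans_map 𝒱 f) f.down.down)
  have hi : ∀ W : X.affineOpens, pullback.fst f₀ W.1.ι ≫ i = g W := fun W =>
    Scheme.OpenCover.map_glueMorphismsOfLocallyDirected 𝒱 _ _ W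
  have hiq : i ≫ q = q₀ ≫ U.ι := Scheme.Cover.hom_ext 𝒱 _ _ fun W => by
    show pullback.fst f₀ (W : X.affineOpens).1.ι ≫ i ≫ q = pullback.fst f₀ (W : X.affineOpens).1.ι ≫ f₀
    rw [reassoc_of% (hi W)]
    simp only [g, Category.assoc, hι]
    rw [← (D W).hk, reassoc_of% (hl W)]
  have hki : ∀ W : X.affineOpens, (D W).k ≫ i = (D W).inc ≫ ιW W := fun W => by
    let k' := pullback.lift (D W).k ((D W).inc ≫ (D W).q) ((D W).hk.trans (Category.assoc _ _ _).symm) (f := f₀)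
    have h1 : k' ≫ pullback.fst f₀ W.1.ι = (D W).k := pullback.lift_fst _ _ _
    have h2 : k' ≫ l W = 𝟙 _ := by rw [← cancel_mono (D W).k, Category.assoc, hl, h1, Category.id_comp]
    rw [← h1, Category.assoc, hi]
    show k' ≫ l W ≫ (D W).inc ≫ ιW W = _
    rw [reassoc_of% h2]
  let 𝒰 : E.OpenCover := E.openCoverOfIsOpenCover (fun W : X.affineOpens => q ⁻¹ᵁ W.1)
    (IsOpenCover.mk (by rw [← Scheme.Hom.preimage_iSup, iSup_affineOpens_eq_top, Scheme.Hom.preimage_top]))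
  haveI : IsOpenImmersion i := by
    refine IsZariskiLocalAtTarget.of_openCover (P := @IsOpenImmersion) 𝒰 fun W => ?_
    haveI := hιoi W
    have hrW : Set.range (q ⁻¹ᵁ (W : X.affineOpens).1).ι = Set.range (ιW W) := by
      rw [Scheme.Opens.range_ι, hrι]; rfl
    let χ := IsOpenImmersion.isoOfRangeEq (q ⁻¹ᵁ (W : X.affineOpens).1).ι (ιW W) hrW
    have sq : IsPullback (D W).inc (D W).k (ιW W) i :=
      IsOpenImmersion.isPullback (D W).inc (D W).k (ιW W) i (hki W) (by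
        refine SetLike.coe_injective ?_
        show i ⁻¹' Set.range (ιW W) = Set.range (D W).k
        ext e
        rw [(D W).mem_range, ← hiq, hrι]
        rfl)
    have sq' : IsPullback (D W).k ((D W).inc ≫ χ.inv) i (q ⁻¹ᵁ (W : X.affineOpens).1).ι :=
      sq.flip.of_iso (Iso.refl _) (Iso.refl _) χ.symm (Iso.refl _) (by simp) (by simp) (by simp)
        (by simp [χ])
    show IsOpenImmersion (pullback.snd i (q ⁻¹ᵁ (W : X.affineOpens).1).ι)
    rw [← sq'.isoPullback_inv_snd]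
    exact (MorphismProperty.cancel_left_of_respectsIso @IsOpenImmersion _ _).2 inferInstance
  refine ⟨_, q, i, hq, (IsOpenImmersion.isPullback q₀ i U.ι q hiq ?_).flip⟩
  refine le_antisymm (fun z hz => ?_) ?_
  · obtain ⟨W, hWz⟩ : ∃ W : X.affineOpens, q z ∈ W.1 := by
      obtain ⟨W, hW, hzW, -⟩ := exists_isAffineOpen_mem_and_subset (x := q z) (U := ⊤) trivial
      exact ⟨⟨W, hW⟩, hzW⟩
    obtain ⟨y, rfl⟩ : z ∈ Set.range (ιW W) := (hrι W).ge hWz
    have hy : ((D W).q ≫ W.1.ι) y ∈ U := by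
      rw [← hι, Scheme.Hom.comp_apply]
      rw [← SetLike.mem_coe, ← Scheme.Opens.range_ι U]
      exact hz
    exact ⟨(D W).k ⟨y, hy⟩, by rw [← Scheme.Hom.comp_apply, hki]; rfl⟩
  · rintro _ ⟨e, rfl⟩
    show q (i e) ∈ U.ι.opensRange
    rw [← Scheme.Hom.comp_apply, hiq]
    exact ⟨q₀ e, rfl⟩

end PurityGlueLib
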