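import Groth.Agent.PurityGlueLib.Stalk
import Groth.Agent.DescFP.Main
import Groth.Agent.S9187
import Groth.Agent.S9192
import Groth.Prelude.Def_FEt

/-!
# Descent of finite étale covers along affine limits
-/

set_option autoImplicit false
universe u

open CategoryTheory CategoryTheory.Limits AlgebraicGeometry DescFP
open Pi1

noncomputable section

namespace PurityGlueLib

variable {I : Type u} [SmallCategory I] [IsCofiltered I] {D : I ⥤ Scheme.{u}} {c : Cone D}
  {T : Scheme.{u}} {f : T ⟶ c.pt}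

theorem prop_push {i j : I} (M : Model c f i) (a : j ⟶ i) (h : FEt.prop M.p) : FEt.prop (M.push a).p :=
  MorphismProperty.pullback_snd _ _ h

theorem prop_push_of_descend (P : MorphismProperty Scheme.{u}) [P.RespectsIso] {i j : I} (M : Model c f i)
    (a : j ⟶ i) {Xi Yi : Scheme.{u}} {fi : Xi ⟶ Yi} {gi : Yi ⟶ D.obj j} {pY : Yi ⟶ D.obj i} {pX : Xi ⟶ M.Z}
    (h1 : IsPullback pY gi (𝟙 _) (D.map a)) (h2 : IsPullback pX fi M.p pY) (h : P fi) : P (M.push a).p := by
  haveI : IsIso gi := h1.isIso_snd_of_isIso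
  have s : IsPullback pX (fi ≫ gi) M.p (D.map a) := by
    simpa using h2.paste_vert h1
  have e : s.isoPullback.inv ≫ fi ≫ gi = (M.push a).p := s.isoPullback_inv_snd
  rw [← e]
  exact (P.cancel_left_of_respectsIso _ _).2 ((P.cancel_right_of_respectsIso _ _).2 h)

variable (hc : IsLimit c) [∀ (i j : I) (f : i ⟶ j), IsAffineHom (D.map f)] [∀ i, CompactSpace (D.obj i)]
  [∀ i, QuasiSeparatedSpace (D.obj i)]

include hc

theorem exists_model_fet (hf : FEt.prop f) : ∃ (i : I) (M : Model c f i), FEt.prop M.p := by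
  haveI : IsFinite f := hf.1
  haveI : Etale f := hf.2
  obtain ⟨i, ⟨M⟩⟩ := DescFP.exists_model hc f
  haveI := M.compactSpace
  haveI := M.quasiSeparatedSpace
  haveI := M.lfp
  obtain ⟨j, φ, Xj, Yj, fj, gj, pY, pX, h1, h2, h3⟩ :=
    Groth.Agent.S9187.result D c hc i M.p (𝟙 _) f (𝟙 _) (c.π.app i) M.g
      (IsPullback.of_vert_isIso ⟨by simp⟩) M.sq
  let N := M.push φ
  haveI := N.compactSpace
  haveI := N.quasiSeparatedSpace
  haveI := N.lfp
  obtain ⟨k, ψ, Xk, Yk, fk, gk, qY, qX, k1, k2, k3⟩ :=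
    Groth.Agent.S9192.result D c hc j N.p (𝟙 _) f (𝟙 _) (c.π.app j) N.g
      (IsPullback.of_vert_isIso ⟨by simp⟩) N.sq
  refine ⟨k, N.push ψ, ?_, prop_push_of_descend (@Etale) N ψ k1 k2 k3⟩
  exact MorphismProperty.pullback_snd _ _ (prop_push_of_descend (@IsFinite) M φ h1 h2 h3)

/-- two models of the same morphism are isomorphic at a later stage -/
theorem exists_iso_stage {i : I} (M N : Model c f i) :
    ∃ (k : I) (a : k ⟶ i) (Z W : Scheme.{u}) (pM : Z ⟶ M.Z) (qM : Z ⟶ D.obj k) (pN : W ⟶ N.Z)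
      (qN : W ⟶ D.obj k) (γ : Z ≅ W),
      IsPullback pM qM M.p (D.map a) ∧ IsPullback pN qN N.p (D.map a) ∧ γ.hom ≫ qN = qM := by
  obtain ⟨j, a, γ, hp, hg⟩ := DescFP.exists_hom hc M N
  obtain ⟨k, b, hb⟩ := DescFP.exists_isIso hc (M.push a) (N.push a) γ hp hg
  haveI := hb
  refine ⟨k, b ≫ a, _, _, (M.push a).pfst b ≫ M.pfst a, ((M.push a).push b).p,
    (N.push a).pfst b ≫ N.pfst a, ((N.push a).push b).p, asIso ((M.push a).pushMap (N.push a) γ hp b),
    ?_, ?_, Model.pushMap_p _ _ _ hp _⟩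
  · rw [D.map_comp]
    exact ((M.push a).isPullback_pfst b).paste_horiz (M.isPullback_pfst a)
  · rw [D.map_comp]
    exact ((N.push a).isPullback_pfst b).paste_horiz (N.isPullback_pfst a)

end PurityGlueLib
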