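import Mathlib

/-!
# The spectrum of a stalk as the limit of the affine open neighbourhoods
-/

set_option autoImplicit false
universe u

open CategoryTheory CategoryTheory.Limits AlgebraicGeometry TopologicalSpace Opposite

noncomputable section

namespace PurityGlueLib

variable (X : Scheme.{u}) (x : X)

/-- affine open neighbourhoods of a point, the smaller the larger -/
structure Nhd where
  /-- the open -/
  D : X.Opens
  aff : IsAffineOpen D
  mem : x ∈ D

variable {X x}

instance : Preorder (Nhd X x) := Preorder.lift fun k => OrderDual.toDual k.D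

theorem Nhd.le_iff {k l : Nhd X x} : k ≤ l ↔ l.D ≤ k.D := Iff.rfl

theorem Nhd.exists_le (U : X.Opens) (hx : x ∈ U) : ∃ k : Nhd X x, k.D ≤ U := by
  obtain ⟨_, ⟨D, hD, rfl⟩, hxD, hDU⟩ := X.isBasis_affineOpens.exists_subset_of_mem_open hx U.isOpen
  exact ⟨⟨D, hD, hxD⟩, hDU⟩

instance : Nonempty (Nhd X x) :=
  ⟨(Nhd.exists_le (x := x) ⊤ trivial).choose⟩

instance : IsDirected (Nhd X x) (· ≤ ·) :=
  ⟨fun k l => by
    obtain ⟨m, hm⟩ := Nhd.exists_le (x := x) (k.D ⊓ l.D) ⟨k.mem, l.mem⟩
    exact ⟨m, Nhd.le_iff.2 (hm.trans inf_le_left), Nhd.le_iff.2 (hm.trans inf_le_right)⟩⟩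

variable (X x)

/-- the rings of sections on the affine neighbourhoods -/
def ringDiag : Nhd X x ⥤ CommRingCat.{u} where
  obj k := Γ(X, k.D)
  map {k l} h := X.presheaf.map (homOfLE (Nhd.le_iff.1 (leOfHom h))).op
  map_id k := X.presheaf.map_id _
  map_comp f g := (X.presheaf.map_comp _ _).symm ▸ rfl

/-- the stalk as a cocone -/
def stalkCocone : Cocone (ringDiag X x) where
  pt := X.presheaf.stalk x
  ι :=
    { app := fun k => X.presheaf.germ k.D x k.mem
      naturality := fun k l h => by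
        dsimp [ringDiag]
        rw [Category.comp_id]
        exact X.presheaf.germ_res _ _ _ }

theorem stalkCocone_isColimit : Nonempty (IsColimit (stalkCocone X x)) := by
  haveI : ReflectsColimit (ringDiag X x) (forget CommRingCat.{u}) :=
    reflectsColimit_of_reflectsIsomorphisms _ _
  refine ⟨isColimitOfReflects (forget CommRingCat)
    (Types.FilteredColimit.isColimitOf _ _ (fun (s : X.presheaf.stalk x) => ?_) ?_)⟩
  · obtain ⟨U, hxU, a, rfl⟩ := X.presheaf.germ_exist s
    obtain ⟨k, hk⟩ := Nhd.exists_le U hxU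
    exact ⟨k, X.presheaf.map (homOfLE hk).op a, (X.presheaf.germ_res_apply (homOfLE hk) x k.mem a).symm⟩
  · intro k l (a : Γ(X, k.D)) (b : Γ(X, l.D)) (h : X.presheaf.germ k.D x k.mem a = X.presheaf.germ l.D x l.mem b)
    obtain ⟨W, hxW, iU, iV, he⟩ := X.presheaf.germ_eq x k.mem l.mem a b h
    obtain ⟨m, hm⟩ := Nhd.exists_le W hxW
    refine ⟨m, homOfLE (Nhd.le_iff.2 (hm.trans (leOfHom iU))), homOfLE (Nhd.le_iff.2 (hm.trans (leOfHom iV))), ?_⟩
    show (X.presheaf.map _).hom a = (X.presheaf.map _).hom b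
    have := congrArg (X.presheaf.map (homOfLE hm).op).hom he
    simp only [← CommRingCat.comp_apply, ← Functor.map_comp] at this
    exact this

/-- the system of spectra -/
def diag : (Nhd X x)ᵒᵖ ⥤ Scheme.{u} := (ringDiag X x).op ⋙ Scheme.Spec

instance isAffine_diag (k : (Nhd X x)ᵒᵖ) : IsAffine ((diag X x).obj k) :=
  inferInstanceAs (IsAffine (Spec Γ(X, k.unop.D)))

instance isAffineHom_diag {k l : (Nhd X x)ᵒᵖ} (f : k ⟶ l) : IsAffineHom ((diag X x).map f) :=
  isAffineHom_of_isAffine _

/-- the spectrum of the stalk as a cone -/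
def cone : Cone (diag X x) := Scheme.Spec.mapCone (stalkCocone X x).op

/-- it is a limit cone -/
def coneIsLimit : IsLimit (cone X x) :=
  isLimitOfPreserves Scheme.Spec (stalkCocone_isColimit X x).some.op

variable {X x}

/-- the inclusion of a stage -/
abbrev incl (k : (Nhd X x)ᵒᵖ) : (diag X x).obj k ⟶ X := k.unop.aff.fromSpec

instance isOpenImmersion_incl (k : (Nhd X x)ᵒᵖ) : IsOpenImmersion (incl k) :=
  k.unop.aff.isOpenImmersion_fromSpec

theorem cone_π_incl (k : (Nhd X x)ᵒᵖ) : (cone X x).π.app k ≫ incl k = X.fromSpecStalk x :=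
  k.unop.aff.fromSpecStalk_eq_fromSpecStalk k.unop.mem

theorem map_incl {k l : (Nhd X x)ᵒᵖ} (f : k ⟶ l) : (diag X x).map f ≫ incl l = incl k :=
  l.unop.aff.map_fromSpec k.unop.aff _

end PurityGlueLib
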